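import Mathlib.GroupTheory.Index
import Mathlib.Algebra.Group.Pi.Lemmas
import Mathlib.Algebra.Group.Prod
import Mathlib.GroupTheory.Perm.Fin
import Mathlib.Algebra.GroupWithZero.Basic
import Mathlib.Data.Fintype.Card
import Mathlib.Data.Finset.Card
import Mathlib.Data.Fintype.Pigeonhole

/-!
The Krull–Remak–Schmidt theorem for finite groups.
-/

set_option autoImplicit false
set_option linter.style.haveILetI false

namespace CfsgLib.KrullSchmidt

universe u v

/-- No nontrivial direct decomposition. -/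
def Indecomposable (A : Type*) [Group A] : Prop :=
  ∀ H K : Subgroup A, H.Normal → K.Normal → H ⊓ K = ⊥ → H ⊔ K = ⊤ → H = ⊥ ∨ K = ⊥

theorem exists_idempotent_pow {M : Type*} [Monoid M] [Finite M] (x : M) :
    ∃ n : ℕ, 1 ≤ n ∧ x ^ n * x ^ n = x ^ n := by
  obtain ⟨a, b, hne, h⟩ : ∃ a b : ℕ, a ≠ b ∧ x ^ a = x ^ b := Finite.exists_ne_map_eq_of_infinite fun k : ℕ => x ^ k
  wlog hab : a < b generalizing a b
  · exact this b a hne.symm h.symm (by omega)
  have key : ∀ k t : ℕ, a ≤ k → x ^ (k + (b - a) * t) = x ^ k := by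
    intro k t hk
    induction t with
    | zero => simp
    | succ t ih =>
      rw [show k + (b - a) * (t + 1) = (k + (b - a) * t - a) + b by
        rw [Nat.mul_succ]; omega, pow_add, ← h, ← pow_add, show k + (b - a) * t - a + a =
        k + (b - a) * t by omega, ih]
  refine ⟨(b - a) * (a + 1), Nat.one_le_iff_ne_zero.2 (Nat.mul_ne_zero (by omega) (by omega)), ?_⟩
  rw [← pow_add]
  refine key _ _ ?_
  calc a ≤ 1 * (a + 1) := by omega
    _ ≤ (b - a) * (a + 1) := Nat.mul_le_mul_right _ (by omega)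

/-- A fixed point makes a normal endomorphism of an indecomposable group bijective. -/
theorem bijective_of_fixed {A : Type*} [Group A] [Finite A] (hA : Indecomposable A) (φ : Monoid.End A)
    (hφ : ∀ g x : A, φ (g * x * g⁻¹) = g * φ x * g⁻¹) {x : A} (hx : x ≠ 1) (hfix : φ x = x) :
    Function.Bijective φ := by
  haveI : Finite (Monoid.End A) := Finite.of_injective _ DFunLike.coe_injective
  obtain ⟨n, hn, hid⟩ := exists_idempotent_pow φ
  have hpow : ∀ k : ℕ, (∀ g y : A, (φ ^ k) (g * y * g⁻¹) = g * (φ ^ k) y * g⁻¹) ∧ (φ ^ k) x = x := by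
    intro k
    induction k with
    | zero => exact ⟨fun g y => rfl, rfl⟩
    | succ k ih =>
      refine ⟨fun g y => ?_, ?_⟩
      · rw [pow_succ]
        show (φ ^ k) (φ (g * y * g⁻¹)) = g * (φ ^ k) (φ y) * g⁻¹
        rw [hφ, ih.1]
      · rw [pow_succ]
        show (φ ^ k) (φ x) = x
        rw [hfix, ih.2]
  let ε : A →* A := φ ^ n
  have hε : ∀ y, ε (ε y) = ε y := fun y => DFunLike.congr_fun hid y
  haveI hkn : ε.ker.Normal := inferInstance
  have hrn : ε.range.Normal := ⟨by
    rintro _ ⟨y, rfl⟩ g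
    exact ⟨g * y * g⁻¹, (hpow n).1 g y⟩⟩
  rcases hA ε.ker ε.range hkn hrn (by
      rw [Subgroup.eq_bot_iff_forall]
      rintro _ ⟨hy, z, rfl⟩
      exact (hε z).symm.trans hy) (by
      rw [eq_top_iff]
      intro y _
      rw [show y = y * (ε y)⁻¹ * ε y by group]
      refine mul_mem (Subgroup.mem_sup_left ?_) (Subgroup.mem_sup_right ⟨y, rfl⟩)
      rw [MonoidHom.mem_ker, map_mul, map_inv, hε, mul_inv_cancel]) with h | h
  · refine Finite.injective_iff_bijective.1 fun y z hyz => ?_
    refine (MonoidHom.ker_eq_bot_iff ε).1 h ?_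
    obtain ⟨k, rfl⟩ : ∃ k, n = k + 1 := ⟨n - 1, by omega⟩
    show (φ ^ (k + 1)) y = (φ ^ (k + 1)) z
    rw [pow_succ]
    exact congrArg (φ ^ k) hyz
  · exfalso
    refine hx ?_
    rw [← (hpow n).2]
    exact (Subgroup.eq_bot_iff_forall _).1 h _ ⟨x, rfl⟩

/-- If two normal endomorphisms of an indecomposable group add up to an automorphism, one of them is
an automorphism. -/
theorem bijective_of_mul {A : Type*} [Group A] [Finite A] (hA : Indecomposable A) (α β θ : Monoid.End A)
    (hα : ∀ g x : A, α (g * x * g⁻¹) = g * α x * g⁻¹)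
    (hθ : ∀ g x : A, θ (g * x * g⁻¹) = g * θ x * g⁻¹)
    (hθb : Function.Bijective θ) (h : ∀ x, α x * β x = θ x) :
    Function.Bijective α ∨ Function.Bijective β := by
  by_cases hβ : Function.Injective β
  · exact Or.inr (Finite.injective_iff_bijective.1 hβ)
  left
  obtain ⟨a, b, hab, hne⟩ : ∃ a b, β a = β b ∧ a ≠ b := by
    simpa [Function.Injective, and_comm] using hβ
  have hx : a * b⁻¹ ≠ 1 := fun e => hne (mul_inv_eq_one.1 e)
  have hαx : α (a * b⁻¹) = θ (a * b⁻¹) := by
    have := h (a * b⁻¹)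
    rwa [map_mul β, map_inv β, hab, mul_inv_cancel, mul_one] at this
  set e : A ≃* A := MulEquiv.ofBijective θ hθb with he
  have hes : ∀ g x : A, e.symm (g * x * g⁻¹) = g * e.symm x * g⁻¹ := by
    intro g x
    apply e.injective
    rw [MulEquiv.apply_symm_apply]
    show g * x * g⁻¹ = θ (g * e.symm x * g⁻¹)
    rw [hθ]
    show g * x * g⁻¹ = g * e (e.symm x) * g⁻¹
    rw [MulEquiv.apply_symm_apply]
  have := bijective_of_fixed hA (e.symm.toMonoidHom.comp α)
    (fun g x => by show e.symm (α _) = _; rw [hα, hes]; rfl) hx (by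
      show e.symm (α _) = _
      rw [hαx]
      exact e.symm_apply_apply _)
  exact (Function.Bijective.of_comp_iff' e.symm.bijective α).1 this

section exchange

variable {n : ℕ} {A : Type u} [Group A] {A' : Type u} [Group A'] {B : Fin n → Type v} [∀ j, Group (B j)]

theorem exists_bijective_component [Finite A] (hA : Indecomposable A) [Nontrivial A]
    (e : A × A' ≃* ((j : Fin n) → B j)) :
    ∃ j, Function.Bijective fun a : A => (e.symm (Pi.mulSingle j (e (a, 1) j))).1 := by
  classical
  let mask : Finset (Fin n) → ((j : Fin n) → B j) →* ((j : Fin n) → B j) := fun T =>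
    { toFun := fun f j => if j ∈ T then f j else 1
      map_one' := funext fun j => by split_ifs <;> rfl
      map_mul' := fun f g => funext fun j => by
        by_cases hj : j ∈ T <;> simp [hj] }
  let α : Finset (Fin n) → Monoid.End A := fun T =>
    (MonoidHom.fst A A').comp (e.symm.toMonoidHom.comp ((mask T).comp
      (e.toMonoidHom.comp (MonoidHom.inl A A'))))
  have hnorm : ∀ T, ∀ g x : A, α T (g * x * g⁻¹) = g * α T x * g⁻¹ := by
    intro T g x
    show (e.symm (mask T (e (g * x * g⁻¹, 1)))).1 = g * (e.symm (mask T (e (x, 1)))).1 * g⁻¹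
    have h : mask T (e (g * x * g⁻¹, 1)) = e (g, 1) * mask T (e (x, 1)) * (e (g, 1))⁻¹ := by
      rw [show ((g * x * g⁻¹, 1) : A × A') = (g, 1) * (x, 1) * (g, 1)⁻¹ by ext <;> simp, map_mul e,
        map_mul e, map_inv e]
      generalize e (g, 1) = u
      generalize e (x, 1) = w
      funext j
      by_cases hj : j ∈ T <;> simp [mask, hj]
    rw [h, map_mul, map_mul, map_inv, MulEquiv.symm_apply_apply]
    simp
  suffices key : ∀ T, Function.Bijective (α T) → ∃ j, Function.Bijective (α {j}) by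
    obtain ⟨j, hj⟩ := key Finset.univ (by
      have h : ∀ a, α Finset.univ a = a := fun a => by
        show (e.symm (mask Finset.univ (e (a, 1)))).1 = a
        rw [show mask Finset.univ (e (a, 1)) = e (a, 1) from funext fun j => by simp [mask],
          MulEquiv.symm_apply_apply]
      rw [show (α Finset.univ : A → A) = id from funext h]
      exact Function.bijective_id)
    refine ⟨j, ?_⟩
    convert hj using 1
    funext a
    show _ = (e.symm (mask {j} (e (a, 1)))).1
    congr 2
    funext k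
    by_cases hk : k = j
    · subst hk; simp [mask]
    · simp [mask, hk]
  intro T
  induction T using Finset.induction_on with
  | empty =>
    intro h
    exfalso
    obtain ⟨x, hx⟩ := exists_ne (1 : A)
    refine hx (h.1 ?_)
    show (e.symm (mask ∅ (e (x, 1)))).1 = (e.symm (mask ∅ (e (1, 1)))).1
    rw [show mask ∅ (e (x, 1)) = mask ∅ (e (1, 1)) from funext fun j => by simp [mask]]
  | insert j T hj ih =>
    intro h
    rcases bijective_of_mul hA (α {j}) (α T) (α (insert j T)) (hnorm _) (hnorm _) h (fun x => by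
        show (e.symm (mask {j} (e (x, 1)))).1 * (e.symm (mask T (e (x, 1)))).1 =
          (e.symm (mask (insert j T) (e (x, 1)))).1
        rw [← Prod.fst_mul, ← map_mul]
        congr 2
        funext k
        by_cases hk : k = j
        · subst hk; simp [mask, hj]
        · simp [mask, hk]) with h' | h'
    · exact ⟨j, h'⟩
    · exact ih h'

end exchange

/-- Split a finite product at one index. -/
def splitAt {n : ℕ} {B : Fin (n + 1) → Type v} [∀ j, Group (B j)] (j : Fin (n + 1)) :
    ((k : Fin (n + 1)) → B k) ≃* B j × ((k : Fin n) → B (j.succAbove k)) where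
  toFun f := (f j, fun k => f (j.succAbove k))
  invFun p := Fin.insertNth j p.1 p.2
  left_inv f := Fin.insertNth_self_removeNth j f
  right_inv p := by ext <;> simp
  map_mul' f g := rfl

theorem exchange {n : ℕ} {A A' : Type u} [Group A] [Group A'] [Finite A] [Finite A'] [Nontrivial A]
    (hA : Indecomposable A) {B : Fin (n + 1) → Type v} [∀ j, Group (B j)] [∀ j, Finite (B j)]
    (hB : ∀ j, Indecomposable (B j)) (e : A × A' ≃* ((k : Fin (n + 1)) → B k)) :
    ∃ j, Nonempty (A ≃* B j) ∧ Nonempty (A' ≃* ((k : Fin n) → B (j.succAbove k))) := by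
  classical
  obtain ⟨j, hj⟩ := exists_bijective_component hA e
  let b : A →* B j := (Pi.evalMonoidHom B j).comp (e.toMonoidHom.comp (MonoidHom.inl A A'))
  let c : B j →* A := (MonoidHom.fst A A').comp (e.symm.toMonoidHom.comp (MonoidHom.mulSingle B j))
  have hcb : Function.Bijective fun a => c (b a) := hj
  have hbn : b.range.Normal := ⟨by
    rintro _ ⟨a, rfl⟩ y
    obtain ⟨⟨g, g'⟩, hg⟩ := e.surjective (Pi.mulSingle j y)
    refine ⟨g * a * g⁻¹, ?_⟩
    show e (g * a * g⁻¹, 1) j = y * e (a, 1) j * y⁻¹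
    rw [show ((g * a * g⁻¹, 1) : A × A') = (g, g') * (a, 1) * (g, g')⁻¹ by ext <;> simp, map_mul, map_mul,
      map_inv, hg]
    simp⟩
  have hbinj : Function.Injective b := fun x y h => hcb.1 (congrArg c h)
  rcases hB j b.range c.ker hbn inferInstance (by
      rw [Subgroup.eq_bot_iff_forall]
      rintro _ ⟨⟨a, rfl⟩, ha⟩
      rw [hcb.1 (show c (b a) = c (b 1) by rw [map_one, map_one]; exact ha), map_one]) (by
      rw [eq_top_iff]
      intro y _
      obtain ⟨a, ha⟩ := hcb.2 (c y)
      rw [show y = b a * ((b a)⁻¹ * y) by group]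
      refine mul_mem (Subgroup.mem_sup_left ⟨a, rfl⟩) (Subgroup.mem_sup_right ?_)
      rw [MonoidHom.mem_ker, map_mul, map_inv]
      dsimp only at ha
      rw [ha, inv_mul_cancel]) with h | h
  · exfalso
    obtain ⟨x, hx⟩ := exists_ne (1 : A)
    exact hx (hbinj (by rw [(Subgroup.eq_bot_iff_forall _).1 h _ ⟨x, rfl⟩, map_one]))
  have hcinj : Function.Injective c := (MonoidHom.ker_eq_bot_iff c).1 h
  have hbb : Function.Bijective b :=
    ⟨hbinj, fun y => by obtain ⟨a, ha⟩ := hcb.2 (c y); exact ⟨a, hcinj ha⟩⟩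
  refine ⟨j, ⟨MulEquiv.ofBijective b hbb⟩, ?_⟩
  let e' : A × A' ≃* B j × ((k : Fin n) → B (j.succAbove k)) := e.trans (splitAt j)
  let ψ : A' →* ((k : Fin n) → B (j.succAbove k)) :=
    (MonoidHom.snd _ _).comp (e'.toMonoidHom.comp (MonoidHom.inr A A'))
  have hψ : Function.Injective ψ := by
    rw [← MonoidHom.ker_eq_bot_iff, Subgroup.eq_bot_iff_forall]
    intro x hx
    have hx' : ∀ k, e (1, x) (j.succAbove k) = 1 := fun k => congrFun hx k
    have h1 : e (1, x) = Pi.mulSingle j (e (1, x) j) := by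
      funext k
      rcases Fin.eq_self_or_eq_succAbove j k with rfl | ⟨k, rfl⟩
      · simp
      · simp [hx' k, Fin.succAbove_ne]
    have h2 : e (1, x) j = 1 := by
      refine hcinj ?_
      show (e.symm (Pi.mulSingle j (e (1, x) j))).1 = c 1
      rw [← h1, MulEquiv.symm_apply_apply, map_one]
    rw [h2, Pi.mulSingle_one] at h1
    exact congrArg Prod.snd ((map_eq_one_iff e e.injective).1 h1)
  refine ⟨MulEquiv.ofBijective ψ ((Nat.bijective_iff_injective_and_card ψ).2 ⟨hψ, ?_⟩)⟩
  have h1 := Nat.card_congr e'.toEquiv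
  rw [Nat.card_prod, Nat.card_prod, ← Nat.card_congr (MulEquiv.ofBijective b hbb).toEquiv] at h1
  exact Nat.eq_of_mul_eq_mul_left Nat.card_pos h1

theorem unique_decomposition : ∀ {m n : ℕ} {A : Fin m → Type u} {B : Fin n → Type v}
    [∀ i, Group (A i)] [∀ j, Group (B j)] [∀ i, Finite (A i)] [∀ j, Finite (B j)],
    (∀ i, Nontrivial (A i) ∧ Indecomposable (A i)) → (∀ j, Nontrivial (B j) ∧ Indecomposable (B j)) →
    (((i : Fin m) → A i) ≃* ((j : Fin n) → B j)) →
    ∃ σ : Fin m ≃ Fin n, ∀ i, Nonempty (A i ≃* B (σ i)) := by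
  intro m
  induction m with
  | zero =>
    intro n A B _ _ _ _ hA hB e
    obtain rfl : n = 0 := by
      by_contra hn
      haveI := fun j => (hB j).1
      haveI : Subsingleton ((j : Fin n) → B j) := e.symm.toEquiv.subsingleton
      obtain ⟨x, hx⟩ := exists_ne (1 : B ⟨0, Nat.pos_of_ne_zero hn⟩)
      have h := congrFun
        (Subsingleton.elim (Pi.mulSingle (⟨0, Nat.pos_of_ne_zero hn⟩ : Fin n) x) 1) ⟨0, Nat.pos_of_ne_zero hn⟩
      exact hx (by simpa using h)
    exact ⟨Equiv.refl _, fun i => i.elim0⟩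
  | succ m ih =>
    intro n A B _ _ _ _ hA hB e
    haveI := fun i => (hA i).1
    obtain ⟨n, rfl⟩ : ∃ k, n = k + 1 := by
      rcases n with _ | k
      · exfalso
        haveI : Subsingleton ((i : Fin (m + 1)) → A i) := e.toEquiv.subsingleton
        obtain ⟨x, hx⟩ := exists_ne (1 : A 0)
        exact hx (by simpa using congrFun (Subsingleton.elim (Pi.mulSingle (0 : Fin (m + 1)) x) 1) 0)
      · exact ⟨k, rfl⟩
    obtain ⟨j, ⟨eA⟩, ⟨eA'⟩⟩ := exchange (hA 0).2 (fun j => (hB j).2) ((splitAt 0).symm.trans e)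
    obtain ⟨σ, hσ⟩ := ih (fun i => hA _) (fun k => hB _) eA'
    refine ⟨(finSuccEquiv' 0).trans ((Equiv.optionCongr σ).trans (finSuccEquiv' j).symm), fun i => ?_⟩
    rcases Fin.eq_self_or_eq_succAbove 0 i with rfl | ⟨i, rfl⟩
    · simpa using ⟨eA⟩
    · simp only [Equiv.trans_apply]
      exact hσ i

end CfsgLib.KrullSchmidt
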